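import Mathlib
import Cfsg.Agent.LFourA.AltPsiAut
import Cfsg.Agent.OddCyclic.EmpFFAlt
import Cfsg.Agent.StandardComponent.AltAut

/-!
Identification of groups with a self-centralizing normal subgroup `A₅` or `A₆`.
-/

set_option autoImplicit false

namespace Cfsg.Agent.H497.AltId

open Subgroup Equiv Equiv.Perm
open Cfsg.Agent.LFourA.AltPsiAut

/-- the homomorphism to the symmetric group -/
theorem exists_psi {X : Type*} [Group X] {K : Subgroup X} {m : ℕ} (hm : 2 ≤ m) [K.Normal]
    (e : K ≃* alternatingGroup (Fin (m + 2)))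
    (hr : ∀ x : X, ∃ σ : Perm (Fin (m + 2)), ∀ k : K,
      (e (MulAut.conjNormal x k) : Perm (Fin (m + 2))) = σ * e k * σ⁻¹) :
    ∃ ψ : X →* Perm (Fin (m + 2)), (∀ k : K, ψ k = e k) ∧
      ∀ x, ψ x = 1 → x ∈ centralizer (K : Set X) := by
  choose f hf using hr
  have huniq : ∀ (x : X) (σ : Perm (Fin (m + 2))), (∀ k : K,
      (e (MulAut.conjNormal x k) : Perm (Fin (m + 2))) = σ * e k * σ⁻¹) → f x = σ := by
    intro x σ hσ
    apply Cfsg.Agent.StandardComponent.AltAut.conj_unique hm
    intro y
    obtain ⟨k, rfl⟩ := e.surjective y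
    rw [← hf, hσ]
  refine ⟨MonoidHom.mk' f fun a b => ?_, ?_, ?_⟩
  · apply huniq
    intro k
    rw [map_mul, MulAut.mul_apply, hf a, hf b]
    group
  · intro k
    apply huniq
    intro l
    have h1 : MulAut.conjNormal (k : X) l = k * l * k⁻¹ := by
      apply Subtype.ext
      rw [MulAut.conjNormal_apply]
      rfl
    rw [h1, map_mul, map_mul, map_inv]
    rfl
  · intro x h1
    change f x = 1 at h1
    rw [mem_centralizer_iff]
    intro k hk
    have h2 := hf x ⟨k, hk⟩
    rw [h1, one_mul, inv_one, mul_one] at h2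
    have h3 := congrArg Subtype.val (e.injective (Subtype.ext h2))
    rw [MulAut.conjNormal_apply] at h3
    exact (mul_inv_eq_iff_eq_mul.1 h3).symm

theorem ident {X : Type*} [Group X] {K : Subgroup X} {m : ℕ} (hm : 2 ≤ m) [K.Normal]
    (e : K ≃* alternatingGroup (Fin (m + 2))) (hC : centralizer (K : Set X) = ⊥)
    (hr : ∀ x : X, ∃ σ : Perm (Fin (m + 2)), ∀ k : K,
      (e (MulAut.conjNormal x k) : Perm (Fin (m + 2))) = σ * e k * σ⁻¹) :
    Nonempty (X ≃* alternatingGroup (Fin (m + 2))) ∨ Nonempty (X ≃* Perm (Fin (m + 2))) := by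
  obtain ⟨ψ, h1, h2⟩ := exists_psi hm e hr
  have hinj : Function.Injective ψ := by
    rw [injective_iff_map_eq_one]
    intro x hx
    have h3 := h2 x hx
    rwa [hC, mem_bot] at h3
  have hle : alternatingGroup (Fin (m + 2)) ≤ ψ.range := by
    intro σ hσ
    obtain ⟨k, hk⟩ := e.surjective ⟨σ, hσ⟩
    exact ⟨k, by rw [h1, hk]⟩
  by_cases h3 : ψ.range ≤ alternatingGroup (Fin (m + 2))
  · left
    have h4 : ψ.range = alternatingGroup (Fin (m + 2)) := le_antisymm h3 hle
    exact ⟨(MonoidHom.ofInjective hinj).trans (MulEquiv.subgroupCongr h4)⟩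
  · right
    obtain ⟨σ, hσ, hσ'⟩ := Set.not_subset.mp h3
    have h5 : sign σ = -1 := by
      rcases Int.units_eq_one_or (sign σ) with h6 | h6
      · exact absurd (Perm.mem_alternatingGroup.mpr h6) hσ'
      · exact h6
    have h4 : ψ.range = ⊤ := by
      rw [eq_top_iff]
      intro τ _
      rcases Int.units_eq_one_or (sign τ) with h6 | h6
      · exact hle (Perm.mem_alternatingGroup.mpr h6)
      · have h7 : τ * σ ∈ ψ.range := by
          apply hle
          rw [Perm.mem_alternatingGroup, map_mul, h5, h6]; rfl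
        exact (Subgroup.mul_mem_cancel_right _ hσ).mp h7
    exact ⟨((MonoidHom.ofInjective hinj).trans (MulEquiv.subgroupCongr h4)).trans Subgroup.topEquiv⟩

/-- groups with a self-centralizing normal `A₅` -/
theorem ident_five {X : Type*} [Group X] {K : Subgroup X} [K.Normal]
    (e : K ≃* alternatingGroup (Fin 5)) (hC : centralizer (K : Set X) = ⊥) :
    Nonempty (X ≃* alternatingGroup (Fin 5)) ∨ Nonempty (X ≃* Perm (Fin 5)) := by
  apply ident (m := 3) (by norm_num) e hC
  intro x
  obtain ⟨σ, hσ⟩ := Cfsg.Agent.OddCyclic.EmpFFAlt.exists_conj (MulAut.congr e (MulAut.conjNormal x))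
  refine ⟨σ, fun k => ?_⟩
  rw [← hσ]
  change _ = ((e (MulAut.conjNormal x (e.symm (e k))) : alternatingGroup (Fin 5)) : Perm (Fin 5))
  rw [e.symm_apply_apply]

/-! ### degree six -/

/-- `(0 2 1 3)(4 5)` -/
def rr : Perm (Fin 6) := swap 0 2 * swap 2 1 * swap 1 3 * swap 4 5

/-- `(0 2)(1 3)` -/
def ss : Perm (Fin 6) := swap 0 2 * swap 1 3

theorem rr_sq : rr * rr = swap 0 1 * swap 2 3 := by decide
theorem rr_four : rr * rr * (rr * rr) = 1 := by decide
theorem ss_rr : ss * rr = rr⁻¹ * ss := by decide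
theorem rr_mem : rr ∈ alternatingGroup (Fin 6) := by rw [Perm.mem_alternatingGroup]; decide
theorem ss_mem : ss ∈ alternatingGroup (Fin 6) := by rw [Perm.mem_alternatingGroup]; decide

set_option maxRecDepth 100000 in
theorem cent_rr : ∀ σ : Perm (Fin 6), σ * rr = rr * σ → sign σ = 1 →
    σ = 1 ∨ σ = rr ∨ σ = rr * rr ∨ σ = rr * rr * rr := by decide +kernel

set_option maxRecDepth 100000 in
theorem no_sq : ∀ σ : Perm (Fin 6), σ * rr = rr * σ → σ * ss = ss * (rr * rr) * σ →
    σ * σ ≠ 1 := by decide +kernel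

/-- even permutations of order four of six points -/
theorem four_type {σ : Perm (Fin 6)} (h4 : orderOf σ = 4) (hs : sign σ = 1) :
    σ.cycleType = {4, 2} := by
  have hmem : ∀ n ∈ σ.cycleType, n = 2 ∨ n = 4 := by
    intro n hn
    have h1 := dvd_of_mem_cycleType hn
    have h2 := two_le_of_mem_cycleType hn
    rw [h4] at h1
    have h3 := Nat.le_of_dvd (by norm_num) h1
    interval_cases n
    · exact Or.inl rfl
    · norm_num at h1
    · exact Or.inr rfl
  have hsum : σ.cycleType.sum ≤ 6 := by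
    rw [sum_cycleType]
    simpa using Finset.card_le_univ σ.support
  have h4mem : 4 ∈ σ.cycleType := by
    by_contra hno
    have h1 : σ.cycleType.lcm ∣ 2 := by
      rw [Multiset.lcm_dvd]
      intro n hn
      rcases hmem n hn with rfl | rfl
      · exact dvd_refl _
      · exact absurd hn hno
    rw [lcm_cycleType, h4] at h1
    norm_num at h1
  obtain ⟨t, ht⟩ := Multiset.exists_cons_of_mem h4mem
  rw [ht, Multiset.sum_cons] at hsum
  have hsg := sign_of_cycleType σ
  rw [hs, ht, Multiset.sum_cons, Multiset.card_cons] at hsg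
  rcases Multiset.empty_or_exists_mem t with rfl | ⟨a, ha⟩
  · exfalso
    revert hsg
    decide
  · obtain ⟨t', ht'⟩ := Multiset.exists_cons_of_mem ha
    have ha2 : a = 2 ∨ a = 4 := hmem a (by rw [ht]; exact Multiset.mem_cons_of_mem ha)
    rw [ht', Multiset.sum_cons] at hsum
    rcases Multiset.empty_or_exists_mem t' with rfl | ⟨b, hb⟩
    · rcases ha2 with rfl | rfl
      · rw [ht, ht']; rfl
      · simp at hsum
    · exfalso
      obtain ⟨t'', ht''⟩ := Multiset.exists_cons_of_mem hb
      have hb2 : b = 2 ∨ b = 4 := hmem b (by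
        rw [ht, ht']; exact Multiset.mem_cons_of_mem (Multiset.mem_cons_of_mem hb))
      rw [ht'', Multiset.sum_cons] at hsum
      omega

/-- the element `rr` of `A₆` -/
def ra : A6 := ⟨rr, rr_mem⟩
/-- the element `ss` of `A₆` -/
def sa' : A6 := ⟨ss, ss_mem⟩

theorem conj_rr {x : A6} (hx : orderOf x = 4) : ∃ g : A6, g * x * g⁻¹ = ra := by
  have h1 : (x : Perm (Fin 6)).cycleType = {4, 2} := four_type
    (by rw [Subgroup.orderOf_coe]; exact hx) (Perm.mem_alternatingGroup.mp x.2)
  have h2 : rr.cycleType = {4, 2} := by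
    apply four_type _ (Perm.mem_alternatingGroup.mp rr_mem)
    have f2 : Fact (Nat.Prime 2) := ⟨Nat.prime_two⟩
    have := orderOf_eq_prime_pow (x := rr) (p := 2) (n := 1) (by decide) (by decide)
    rw [this]; norm_num
  have h3 : IsConj (x : Perm (Fin 6)) rr := by
    rw [isConj_iff_cycleType_eq, h1, h2]
  obtain ⟨g, hg⟩ := isConj_iff.mp h3
  rcases Int.units_eq_one_or (sign g) with h4 | h4
  · exact ⟨⟨g, Perm.mem_alternatingGroup.mpr h4⟩, Subtype.ext hg⟩
  · refine ⟨⟨swap 4 5 * g, ?_⟩, Subtype.ext ?_⟩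
    · rw [Perm.mem_alternatingGroup, map_mul, h4, sign_swap (by decide)]; rfl
    · change swap 4 5 * g * (x : Perm (Fin 6)) * (swap 4 5 * g)⁻¹ = rr
      calc swap 4 5 * g * (x : Perm (Fin 6)) * (swap 4 5 * g)⁻¹ =
          swap 4 5 * (g * (x : Perm (Fin 6)) * g⁻¹) * (swap 4 5)⁻¹ := by group
        _ = swap 4 5 * rr * (swap 4 5)⁻¹ := by rw [hg]
        _ = rr := by decide

/-- a group without elements of order `> 6` induces on `A₆` only automorphisms mapping three-cycles
to three-cycles -/
theorem mem_NE_of_le {X : Type*} [Group X] [Finite X] (hle : ∀ x : X, orderOf x ≤ 6)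
    (φ : X →* MulAut A6) (hinn : ∀ g : A6, ∃ x : X, φ x = MulAut.conj g) (α : X) : φ α ∈ NE := by
  have hconj : ∀ g : A6, MulAut.conj g ∈ NE := by
    intro g x hx
    rw [MulAut.conj_apply]
    exact isThreeCycle_conj.2 hx
  have hra4 : orderOf (ra : A6) = 4 := by
    have f2 : Fact (Nat.Prime 2) := ⟨Nat.prime_two⟩
    have := orderOf_eq_prime_pow (x := rr) (p := 2) (n := 1) (by decide) (by decide)
    rw [← Subgroup.orderOf_coe]
    change orderOf rr = 4
    rw [this]; norm_num
  obtain ⟨g, hg⟩ := conj_rr (x := φ α ra) (by rw [MulEquiv.orderOf_eq]; exact hra4)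
  obtain ⟨xg, hxg⟩ := hinn g
  set y := xg * α with hy
  set b := φ y with hb
  have hbr : b ra = ra := by
    rw [hb, hy, map_mul, hxg, MulAut.mul_apply, MulAut.conj_apply]
    exact hg
  -- it suffices that `b ∈ NE`
  suffices hbNE : b ∈ NE by
    have h1 : φ α = (MulAut.conj g)⁻¹ * b := by rw [hb, hy, map_mul, hxg]; group
    rw [h1]
    exact NE.mul_mem (NE.inv_mem (hconj g)) hbNE
  have hsr : sa' * ra * sa'⁻¹ = ra⁻¹ := by
    apply Subtype.ext
    change ss * rr * ss⁻¹ = rr⁻¹
    decide
  -- `b s = s w`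
  set w := sa'⁻¹ * b sa' with hw
  have hbs : b sa' = sa' * w := by rw [hw]; group
  have hwr : w * ra = ra * w := by
    have h1 : b sa' * ra * (b sa')⁻¹ = ra⁻¹ := by
      have h2 := congrArg b hsr
      rw [map_mul, map_mul, map_inv, map_inv, hbr] at h2
      exact h2
    have h2 : sa' * (w * ra * w⁻¹) * sa'⁻¹ = sa' * ra * sa'⁻¹ := by
      rw [hsr, ← h1, hbs]; group
    have h3 : w * ra * w⁻¹ = ra := mul_left_cancel (mul_right_cancel h2)
    exact mul_inv_eq_iff_eq_mul.mp h3
  have hw4 := cent_rr (w : Perm (Fin 6)) (congrArg Subtype.val hwr)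
    (Perm.mem_alternatingGroup.mp w.2)
  have hra2 : ra * ra = sa := Subtype.ext rr_sq
  have hbsa : b sa = sa := by rw [← hra2, map_mul, hbr]
  have hss : sa' = sb := rfl
  by_contra hbNE
  -- odd case
  have hodd : w ^ 30 = ra * ra → b w = w → False := by
    intro h30 hbw
    have hpow : ∀ n : ℕ, (b ^ n) sa' = sa' * w ^ n := by
      intro n
      induction n with
      | zero => simp
      | succ n ih =>
        rw [pow_succ', MulAut.mul_apply, ih, map_mul, map_pow, hbw, hbs, pow_succ']
        group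
    have hpowr : ∀ n : ℕ, (b ^ n) ra = ra := by
      intro n
      induction n with
      | zero => simp
      | succ n ih => rw [pow_succ', MulAut.mul_apply, ih, hbr]
    have hb2 : b * b ∈ NE := by
      have h1 := inv_mul_mem (α := b⁻¹) (β := b) (fun h => hbNE (inv_mem_iff.1 h)) hbNE
      rwa [inv_inv] at h1
    have hb30 : b ^ 30 ∈ NE := by
      rw [show (30 : ℕ) = 2 * 15 by norm_num, pow_mul, pow_two]
      exact NE.pow_mem hb2 15
    obtain ⟨σ, hσ⟩ := exists_perm hb30
    have hb60 : b ^ 30 * b ^ 30 = 1 := by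
      rw [← pow_add, hb, ← map_pow]
      have h1 : orderOf y ∣ 60 := by
        have h2 := hle y
        have h3 := orderOf_pos y
        generalize orderOf y = n at *
        interval_cases n <;> norm_num
      rw [show 30 + 30 = 60 by norm_num, orderOf_dvd_iff_pow_eq_one.mp h1, map_one]
    have hσσ : σ * σ = 1 := by
      apply Cfsg.Agent.StandardComponent.AltAut.conj_unique (m := 4) (by norm_num)
      intro x
      have h1 : ((b ^ 30 * b ^ 30) x : Perm (Fin 6)) = σ * (σ * x * σ⁻¹) * σ⁻¹ := by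
        rw [MulAut.mul_apply, hσ, hσ]
      rw [hb60, MulAut.one_apply] at h1
      rw [one_mul, inv_one, mul_one]
      calc σ * σ * (x : Perm (Fin 6)) * (σ * σ)⁻¹ = σ * (σ * x * σ⁻¹) * σ⁻¹ := by group
        _ = x := h1.symm
    apply no_sq σ _ _ hσσ
    · have h1 := hσ ra
      rw [hpowr] at h1
      exact (mul_inv_eq_iff_eq_mul.mp h1.symm)
    · have h1 := hσ sa'
      rw [hpow, h30] at h1
      exact (mul_inv_eq_iff_eq_mul.mp h1.symm)
  have hr4' : ra ^ 4 = 1 := by rw [← hra4, pow_orderOf_eq_one]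
  rcases hw4 with h1 | h1 | h1 | h1
  · have h2 : w = 1 := Subtype.ext h1
    apply hbNE
    apply mem_NE_of_fix hbsa
    rw [← hss, hbs, h2, mul_one]
  · have h2 : w = ra := Subtype.ext h1
    refine hodd ?_ (by rw [h2, hbr])
    rw [h2, show 30 = 4 * 7 + 2 by norm_num, pow_add, pow_mul, hr4', one_pow, one_mul, pow_two]
  · have h2 : w = ra * ra := Subtype.ext h1
    apply hbNE
    have h3 : MulAut.conj ra * b ∈ NE := by
      apply mem_NE_of_fix
      · rw [MulAut.mul_apply, hbsa, MulAut.conj_apply, ← hra2]; group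
      · rw [MulAut.mul_apply, ← hss, hbs, h2, MulAut.conj_apply]
        apply Subtype.ext
        change rr * (ss * (rr * rr)) * rr⁻¹ = ss
        decide
    have h4 : b = (MulAut.conj ra)⁻¹ * (MulAut.conj ra * b) := by group
    rw [h4]
    exact NE.mul_mem (NE.inv_mem (hconj ra)) h3
  · have h2 : w = ra * ra * ra := Subtype.ext h1
    refine hodd ?_ (by rw [h2, map_mul, map_mul, hbr])
    rw [h2, show ra * ra * ra = ra ^ 3 by rw [pow_succ, pow_two], ← pow_mul,
      show 3 * 30 = 4 * 22 + 2 by norm_num, pow_add, pow_mul, hr4', one_pow, one_mul, pow_two]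

/-- groups with a self-centralizing normal `A₆` and without elements of order greater than six -/
theorem ident_six {X : Type*} [Group X] [Finite X] (hle : ∀ x : X, orderOf x ≤ 6)
    {K : Subgroup X} [K.Normal]
    (e : K ≃* alternatingGroup (Fin 6)) (hC : centralizer (K : Set X) = ⊥) :
    Nonempty (X ≃* alternatingGroup (Fin 6)) ∨ Nonempty (X ≃* Perm (Fin 6)) := by
  apply ident (m := 4) (by norm_num) e hC
  intro x
  let φ : X →* MulAut A6 := (MulAut.congr e).toMonoidHom.comp MulAut.conjNormal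
  have hφ : ∀ (x : X) (k : K), φ x (e k) = e (MulAut.conjNormal x k) := by
    intro x k
    change e (MulAut.conjNormal x (e.symm (e k))) = _
    rw [e.symm_apply_apply]
  have hmem : φ x ∈ NE := by
    apply mem_NE_of_le hle φ
    intro g
    refine ⟨(e.symm g : K), ?_⟩
    ext1 a
    obtain ⟨k, rfl⟩ := e.surjective a
    rw [hφ, MulAut.conj_apply]
    have h1 : MulAut.conjNormal ((e.symm g : K) : X) k = e.symm g * k * (e.symm g)⁻¹ := by
      apply Subtype.ext
      rw [MulAut.conjNormal_apply]
      rfl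
    rw [h1, map_mul, map_mul, map_inv, e.apply_symm_apply]
  obtain ⟨σ, hσ⟩ := exists_perm hmem
  refine ⟨σ, fun k => ?_⟩
  rw [← hσ, hφ]

/-- `A₆` has no element of order six -/
theorem no_six (x : A6) : orderOf x ≠ 6 := by
  intro hx
  have h6 : orderOf (x : Perm (Fin 6)) = 6 := by rw [Subgroup.orderOf_coe]; exact hx
  have hs : sign (x : Perm (Fin 6)) = 1 := Perm.mem_alternatingGroup.mp x.2
  generalize (x : Perm (Fin 6)) = σ at h6 hs
  have hmem : ∀ n ∈ σ.cycleType, n = 2 ∨ n = 3 ∨ n = 6 := by
    intro n hn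
    have h1 := dvd_of_mem_cycleType hn
    have h2 := two_le_of_mem_cycleType hn
    rw [h6] at h1
    have h3 := Nat.le_of_dvd (by norm_num) h1
    interval_cases n
    · exact Or.inl rfl
    · exact Or.inr (Or.inl rfl)
    · norm_num at h1
    · norm_num at h1
    · exact Or.inr (Or.inr rfl)
  have hsum : σ.cycleType.sum ≤ 6 := by
    rw [sum_cycleType]
    simpa using Finset.card_le_univ σ.support
  have hsg := sign_of_cycleType σ
  rw [hs] at hsg
  by_cases h6m : 6 ∈ σ.cycleType
  · obtain ⟨t, ht⟩ := Multiset.exists_cons_of_mem h6m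
    rw [ht, Multiset.sum_cons] at hsum hsg
    rcases Multiset.empty_or_exists_mem t with rfl | ⟨a, ha⟩
    · rw [Multiset.card_cons] at hsg
      revert hsg; decide
    · have ha2 := hmem a (by rw [ht]; exact Multiset.mem_cons_of_mem ha)
      have := Multiset.le_sum_of_mem ha
      omega
  · have h3m : 3 ∈ σ.cycleType := by
      by_contra hno
      have h1 : σ.cycleType.lcm ∣ 2 := by
        rw [Multiset.lcm_dvd]
        intro n hn
        rcases hmem n hn with rfl | rfl | rfl
        · exact dvd_refl _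
        · exact absurd hn hno
        · exact absurd hn h6m
      rw [lcm_cycleType, h6] at h1
      norm_num at h1
    have h2m : 2 ∈ σ.cycleType := by
      by_contra hno
      have h1 : σ.cycleType.lcm ∣ 3 := by
        rw [Multiset.lcm_dvd]
        intro n hn
        rcases hmem n hn with rfl | rfl | rfl
        · exact absurd hn hno
        · exact dvd_refl _
        · exact absurd hn h6m
      rw [lcm_cycleType, h6] at h1
      norm_num at h1
    obtain ⟨t, ht⟩ := Multiset.exists_cons_of_mem h3m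
    have h2t : 2 ∈ t := by
      rw [ht, Multiset.mem_cons] at h2m
      exact h2m.resolve_left (by norm_num)
    obtain ⟨t', ht'⟩ := Multiset.exists_cons_of_mem h2t
    rw [ht, ht', Multiset.sum_cons, Multiset.sum_cons] at hsum hsg
    rcases Multiset.empty_or_exists_mem t' with rfl | ⟨a, ha⟩
    · rw [Multiset.card_cons, Multiset.card_cons] at hsg
      revert hsg; decide
    · have ha2 := hmem a (by
        rw [ht, ht']; exact Multiset.mem_cons_of_mem (Multiset.mem_cons_of_mem ha))
      have := Multiset.le_sum_of_mem ha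
      omega

end Cfsg.Agent.H497.AltId
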