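import Mathlib
import Cfsg.Agent.SignalizersComponents.Components
import Cfsg.Agent.SignalizersComponents.ComponentExists

/-!
Finite groups with trivial solvable radical: components are simple, and if there is only one
component the group is almost simple.
-/

set_option autoImplicit false

namespace Cfsg.Agent.H497

open Subgroup Cfsg
open Cfsg.Agent.SignalizersComponents.Components
open Cfsg.Agent.SignalizersComponents.ComponentExists

/-- no nontrivial solvable normal subgroup -/
def RadTriv (X : Type*) [Group X] : Prop :=
  ∀ N : Subgroup X, N.Normal → Group.IsSolvable N → N = ⊥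

/-- the quotient by the solvable radical -/
theorem radTriv_quotient {G : Type*} [Group G] (R : Subgroup G) [R.Normal]
    (hRs : Group.IsSolvable ↥R)
    (hRmax : ∀ N : Subgroup G, N.Normal → Group.IsSolvable ↥N → N ≤ R) : RadTriv (G ⧸ R) := by
  intro N hN hNs
  have h1 : (N.comap (QuotientGroup.mk' R)).Normal := hN.comap _
  have h2 : Group.IsSolvable (N.comap (QuotientGroup.mk' R)) := by
    let f : N.comap (QuotientGroup.mk' R) →* N := (QuotientGroup.mk' R).subgroupComap N
    apply Group.isSolvable_of_ker_le_range (f := (Subgroup.inclusion (show R ≤ N.comap (QuotientGroup.mk' R) from ?_))) (g := f) _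
    · intro x hx
      rw [mem_comap, QuotientGroup.mk'_apply, (QuotientGroup.eq_one_iff x).mpr hx]
      exact one_mem _
    · intro x hx
      rw [MonoidHom.mem_ker] at hx
      have h3 : QuotientGroup.mk' R (x : G) = 1 := congrArg Subtype.val hx
      rw [QuotientGroup.mk'_apply, QuotientGroup.eq_one_iff] at h3
      exact ⟨⟨x, h3⟩, Subtype.ext rfl⟩
  have h3 := hRmax _ h1 h2
  rw [eq_bot_iff]
  intro x hx
  obtain ⟨g, rfl⟩ := QuotientGroup.mk'_surjective R x
  have h4 : g ∈ R := h3 hx
  rw [mem_bot, QuotientGroup.mk'_apply, QuotientGroup.eq_one_iff]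
  exact h4

section
variable {X : Type*} [Group X] [Finite X]

omit [Finite X] in
theorem fitting_eq_bot (h : RadTriv X) : fittingSubgroup X = ⊥ := by
  rw [eq_bot_iff]
  apply sSup_le
  rintro N ⟨hN, hNn⟩
  exact (h N hN inferInstance).le

/-- the centre of a component is trivial -/
theorem center_component_eq_bot (h : RadTriv X) {K : Subgroup X} (hK : IsComponent K) :
    center K = ⊥ := by
  have h1 : ((center K).map K.subtype).IsSubnormal := by
    have h2 : ((center K).map K.subtype) ≤ K := map_subtype_le _
    have h3 : (((center K).map K.subtype).subgroupOf K) = center K := by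
      rw [Subgroup.subgroupOf, Subgroup.comap_map_eq_self_of_injective K.subtype_injective]
    exact Subgroup.IsSubnormal.step _ _ h2 hK.1 (by rw [h3]; infer_instance)
  have h2 : Group.IsSolvable ((center K).map K.subtype) :=
    isSolvable_map (Group.isSolvable_of_comm fun a b => Subtype.ext
      ((mem_center_iff.mp b.2) (a : K))) _
  obtain ⟨N, hN, hNs, hle⟩ := exists_normal_isSolvable_of_isSubnormal h1 h2
  rw [h N hN hNs, le_bot_iff] at hle
  exact (Subgroup.map_eq_bot_iff_of_injective _ K.subtype_injective).mp hle

theorem component_isSimple (h : RadTriv X) {K : Subgroup X} (hK : IsComponent K) :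
    IsSimpleGroup K := by
  have h1 := hK.2.2
  have h2 := center_component_eq_bot h hK
  have e : K ⧸ center K ≃* K := (QuotientGroup.quotientMulEquivOfEq h2).trans
    QuotientGroup.quotientBot
  exact MulEquiv.isSimpleGroup e.symm

omit [Finite X] in
theorem component_not_comm {K : Subgroup X} (hK : IsComponent K) : ¬ IsMulCommutative K :=
  quasisimple_not_isMulCommutative hK.2

theorem exists_component_le (h : RadTriv X) {C : Subgroup X} (hC : C.Normal) (hne : C ≠ ⊥) :
    ∃ K : Subgroup X, IsComponent K ∧ K ≤ C := by
  have h1 : ¬ Group.IsSolvable C := fun hs => hne (h C hC hs)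
  have hcomp := exists_isComponent_le (G := X) (C := C)
    (Subgroup.IsSubnormal.step C ⊤ le_top Subgroup.IsSubnormal.top
      (by rw [Subgroup.normal_subgroupOf_iff_le_normalizer le_top, top_le_iff,
        Subgroup.normalizer_eq_top_iff]; exact hC)) h1
    (by
      rw [fitting_eq_bot h]
      intro x _
      rw [mem_centralizer_iff]
      intro y hy
      rw [SetLike.mem_coe, mem_bot] at hy
      rw [hy, one_mul, mul_one])
  exact hcomp

theorem disjoint_components (h : RadTriv X) {K L : Subgroup X} (hK : IsComponent K)
    (hL : IsComponent L) (hne : K ≠ L) {x : X} (hxK : x ∈ K) (hxL : x ∈ L) : x = 1 := by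
  have h1 : K ≤ centralizer (L : Set X) := component_le_centralizer_of_ne hK hL hne
  have h2 : (⟨x, hxK⟩ : K) ∈ center K := by
    rw [mem_center_iff]
    intro k
    apply Subtype.ext
    have := h1 k.2
    rw [mem_centralizer_iff] at this
    exact (this x hxL).symm
  rw [center_component_eq_bot h hK, mem_bot] at h2
  exact congrArg Subtype.val h2

/-- A finite group with trivial solvable radical and a unique component is almost simple. -/
theorem almost_simple [Nontrivial X] (h : RadTriv X)
    (huniq : ∀ K L : Subgroup X, IsComponent K → IsComponent L → K = L) :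
    ∃ S : Subgroup X, S.Normal ∧ IsSimpleGroup ↥S ∧ ¬ IsMulCommutative ↥S ∧
      Subgroup.centralizer (S : Set X) = ⊥ := by
  obtain ⟨K, hK, -⟩ := exists_component_le h (C := ⊤) inferInstance top_ne_bot
  have hKn : K.Normal := by
    constructor
    intro n hn g
    have h1 := huniq _ _ (isComponent_conj g hK) hK
    rw [← h1]
    exact ⟨n, hn, rfl⟩
  refine ⟨K, hKn, component_isSimple h hK, component_not_comm hK, ?_⟩
  by_contra hne
  have hCn : (centralizer (K : Set X)).Normal := inferInstance
  obtain ⟨L, hL, hLC⟩ := exists_component_le h hCn hne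
  have h1 := huniq _ _ hL hK
  rw [h1] at hLC
  apply component_not_comm hK
  refine ⟨⟨fun a b => Subtype.ext ?_⟩⟩
  have := hLC b.2
  rw [mem_centralizer_iff] at this
  exact this a a.2

end

end Cfsg.Agent.H497
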